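import Groth.Agent.Lib.Helper18.SymBasis.Quot

/-!
# Staircase coordinates modulo `I_a + J·R[t]` (helper18)
-/

open Groth.Agent.Lib.Helper4.FV

namespace Helper18.SymBasis

universe u

/-- The staircase monomial indexed by the Pi-type. -/
noncomputable def piMon (S : Type u) [CommRing S] (r : ℕ) (d : Π i : Fin r, Fin (r - (i : ℕ))) :
    MvPolynomial (Fin r) S :=
  ∏ i : Fin r, MvPolynomial.X i ^ ((d i : ℕ))

theorem freeVia_piMon (S : Type u) [CommRing S] (r : ℕ) :
    FreeVia (phi S r : MvPolynomial (Fin r) S →+* MvPolynomial (Fin r) S) (piMon S r) :=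
  (freeVia_stair S r).reindex (stairEquivPi r)

theorem map_piMon {R : Type u} [CommRing R] (r : ℕ) (J : Ideal R)
    (d : Π i : Fin r, Fin (r - (i : ℕ))) :
    MvPolynomial.map (Ideal.Quotient.mk J) (piMon R r d) = piMon (R ⧸ J) r d := by
  simp [piMon, map_prod]

theorem pi_coeffs_mem {R : Type u} [CommRing R] (r : ℕ) (a : Fin r → R) (J : Ideal R)
    (α : (Π i : Fin r, Fin (r - (i : ℕ))) → R)
    (h : ∑ d, MvPolynomial.C (α d) * ∏ i : Fin r, MvPolynomial.X i ^ ((d i : ℕ)) ∈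
      Ideal.span (Set.range fun i : Fin r =>
          MvPolynomial.esymm (Fin r) R ((i : ℕ) + 1) - MvPolynomial.C (a i)) ⊔
        Ideal.map (MvPolynomial.C : R →+* MvPolynomial (Fin r) R) J) :
    ∀ d, α d ∈ J :=
  coeffs_mem_of_mem_sup (fun S _ => piMon S r) (fun J d => map_piMon r J d)
    (fun S _ => freeVia_piMon S r) a J α h

theorem pi_exists_coeffs {R : Type u} [CommRing R] (r : ℕ) (a : Fin r → R)
    (x : MvPolynomial (Fin r) R) :
    ∃ α : (Π i : Fin r, Fin (r - (i : ℕ))) → R,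
      x - ∑ d, MvPolynomial.C (α d) * ∏ i : Fin r, MvPolynomial.X i ^ ((d i : ℕ)) ∈
        Ideal.span (Set.range fun i : Fin r =>
          MvPolynomial.esymm (Fin r) R ((i : ℕ) + 1) - MvPolynomial.C (a i)) :=
  exists_coeffs (freeVia_piMon R r) a x

theorem pi_sum_mem_map {R : Type u} [CommRing R] (r : ℕ) (J : Ideal R)
    (α : (Π i : Fin r, Fin (r - (i : ℕ))) → R) (h : ∀ d, α d ∈ J) :
    ∑ d, MvPolynomial.C (α d) * ∏ i : Fin r, MvPolynomial.X i ^ ((d i : ℕ)) ∈
      Ideal.map (MvPolynomial.C : R →+* MvPolynomial (Fin r) R) J :=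
  Ideal.sum_mem _ (fun d _ => Ideal.mul_mem_right _ _ (Ideal.mem_map_of_mem _ (h d)))

end Helper18.SymBasis
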