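import Groth.Agent.Lib.Helper18.SymBasis.Stair

/-!
# The universal splitting algebra `R[t]/(eᵢ(t) - aᵢ)` is free on the staircase monomials (helper18)
-/

open Groth.Agent.Lib.Helper4.FV

namespace Helper18.SymBasis

section
variable {R : Type*} [CommRing R] {r : ℕ}

/-- The ideal generated by the `eᵢ(t) - aᵢ`. -/
noncomputable def splitIdeal (a : Fin r → R) : Ideal (MvPolynomial (Fin r) R) :=
  Ideal.span (Set.range fun i : Fin r =>
    MvPolynomial.esymm (Fin r) R ((i : ℕ) + 1) - MvPolynomial.C (a i))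

theorem phi_sub_C_eval_mem (a : Fin r → R) (p : MvPolynomial (Fin r) R) :
    phi R r p - MvPolynomial.C (MvPolynomial.eval a p) ∈ splitIdeal a := by
  induction p using MvPolynomial.induction_on with
  | C c =>
    simp only [phi, MvPolynomial.aeval_C, MvPolynomial.algebraMap_eq, MvPolynomial.eval_C, sub_self]
    exact zero_mem _
  | add p q hp hq =>
    have : phi R r (p + q) - MvPolynomial.C (MvPolynomial.eval a (p + q)) =
        (phi R r p - MvPolynomial.C (MvPolynomial.eval a p)) +
          (phi R r q - MvPolynomial.C (MvPolynomial.eval a q)) := by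
      rw [map_add, map_add, map_add]; ring
    rw [this]
    exact add_mem hp hq
  | mul_X p i hp =>
    have hX : phi R r (MvPolynomial.X i) = MvPolynomial.esymm (Fin r) R ((i : ℕ) + 1) := by
      simp [phi]
    have : phi R r (p * MvPolynomial.X i) - MvPolynomial.C (MvPolynomial.eval a (p * MvPolynomial.X i)) =
        (phi R r p - MvPolynomial.C (MvPolynomial.eval a p)) *
            MvPolynomial.esymm (Fin r) R ((i : ℕ) + 1) +
          MvPolynomial.C (MvPolynomial.eval a p) *
            (MvPolynomial.esymm (Fin r) R ((i : ℕ) + 1) - MvPolynomial.C (a i)) := by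
      rw [map_mul, map_mul, hX, MvPolynomial.eval_X, map_mul]; ring
    rw [this]
    exact add_mem (Ideal.mul_mem_right _ _ hp)
      (Ideal.mul_mem_left _ _ (Ideal.subset_span ⟨i, rfl⟩))

variable {ι : Type*} [Fintype ι] {b : ι → MvPolynomial (Fin r) R}

theorem exists_coeffs (hb : FreeVia (phi R r : MvPolynomial (Fin r) R →+* MvPolynomial (Fin r) R) b)
    (a : Fin r → R) (x : MvPolynomial (Fin r) R) :
    ∃ α : ι → R, x - ∑ k, MvPolynomial.C (α k) * b k ∈ splitIdeal a := by
  obtain ⟨p, hp⟩ := hb.2 x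
  refine ⟨fun k => MvPolynomial.eval a (p k), ?_⟩
  have hp' : x = ∑ k, phi R r (p k) * b k := hp.symm
  rw [hp', ← Finset.sum_sub_distrib]
  refine Ideal.sum_mem _ (fun k _ => ?_)
  rw [← sub_mul]
  exact Ideal.mul_mem_right _ _ (phi_sub_C_eval_mem a (p k))

theorem coeffs_eq_zero (hb : FreeVia (phi R r : MvPolynomial (Fin r) R →+* MvPolynomial (Fin r) R) b)
    (a : Fin r → R) (α : ι → R)
    (h : ∑ k, MvPolynomial.C (α k) * b k ∈ splitIdeal a) : ∀ k, α k = 0 := by
  classical
  rw [splitIdeal, Ideal.mem_span_range_iff_exists_fun] at h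
  obtain ⟨c, hc⟩ := h
  choose q hq using fun i => hb.2 (c i)
  have hq' : ∀ i, c i = ∑ k, phi R r (q i k) * b k := fun i => (hq i).symm
  have hphi : ∀ i : Fin r, phi R r (MvPolynomial.X i - MvPolynomial.C (a i)) =
      MvPolynomial.esymm (Fin r) R ((i : ℕ) + 1) - MvPolynomial.C (a i) := by
    intro i
    simp [phi]
  have h1 : (fun p : ι → MvPolynomial (Fin r) R => ∑ k, (phi R r : MvPolynomial (Fin r) R →+* _) (p k) * b k)
      (fun k => ∑ i, q i k * (MvPolynomial.X i - MvPolynomial.C (a i))) =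
      (fun p : ι → MvPolynomial (Fin r) R => ∑ k, (phi R r : MvPolynomial (Fin r) R →+* _) (p k) * b k)
      (fun k => MvPolynomial.C (α k)) := by
    show ∑ k, phi R r (∑ i, q i k * (MvPolynomial.X i - MvPolynomial.C (a i))) * b k =
      ∑ k, phi R r (MvPolynomial.C (α k)) * b k
    have e2 : ∑ k, phi R r (MvPolynomial.C (α k)) * b k = ∑ k, MvPolynomial.C (α k) * b k := by
      refine Finset.sum_congr rfl (fun k _ => ?_)
      simp [phi]
    rw [e2, ← hc]
    have e3 : ∀ i : Fin r, c i * (MvPolynomial.esymm (Fin r) R ((i : ℕ) + 1) - MvPolynomial.C (a i)) =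
        ∑ k, phi R r (q i k) * (MvPolynomial.esymm (Fin r) R ((i : ℕ) + 1) - MvPolynomial.C (a i)) * b k := by
      intro i
      conv_lhs => rw [hq' i]
      rw [Finset.sum_mul]
      refine Finset.sum_congr rfl (fun k _ => ?_)
      ring
    have e4 : ∀ k : ι, phi R r (∑ i, q i k * (MvPolynomial.X i - MvPolynomial.C (a i))) * b k =
        ∑ i, phi R r (q i k) * (MvPolynomial.esymm (Fin r) R ((i : ℕ) + 1) - MvPolynomial.C (a i)) * b k := by
      intro k
      rw [map_sum, Finset.sum_mul]
      refine Finset.sum_congr rfl (fun i _ => ?_)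
      rw [map_mul, hphi]
    rw [Finset.sum_congr rfl (fun k _ => e4 k), Finset.sum_congr rfl (fun i _ => e3 i),
      Finset.sum_comm]
  have h2 := hb.1 h1
  intro k
  have h3 := congrFun h2 k
  have h4 := congrArg (MvPolynomial.eval a) h3
  simp only [map_sum, map_mul, map_sub, MvPolynomial.eval_X, MvPolynomial.eval_C, sub_self,
    mul_zero, Finset.sum_const_zero] at h4
  exact h4.symm

end

section
variable {R : Type*} [CommRing R] {r : ℕ}

/-- Reduction modulo `J` sends `I_a + J·R[t]` into `I_{ā}`. -/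
theorem map_mem_splitIdeal (a : Fin r → R) (J : Ideal R) {x : MvPolynomial (Fin r) R}
    (hx : x ∈ splitIdeal a ⊔ Ideal.map (MvPolynomial.C : R →+* MvPolynomial (Fin r) R) J) :
    MvPolynomial.map (Ideal.Quotient.mk J) x ∈
      splitIdeal (fun i => Ideal.Quotient.mk J (a i)) := by
  have hle : splitIdeal a ⊔ Ideal.map (MvPolynomial.C : R →+* MvPolynomial (Fin r) R) J ≤
      Ideal.comap (MvPolynomial.map (Ideal.Quotient.mk J))
        (splitIdeal (fun i => Ideal.Quotient.mk J (a i))) := by
    refine sup_le ?_ ?_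
    · rw [splitIdeal, Ideal.span_le]
      rintro _ ⟨i, rfl⟩
      rw [SetLike.mem_coe, Ideal.mem_comap, map_sub, MvPolynomial.map_esymm, MvPolynomial.map_C]
      exact Ideal.subset_span ⟨i, rfl⟩
    · rw [Ideal.map_le_iff_le_comap]
      intro j hj
      rw [Ideal.mem_comap, Ideal.mem_comap, MvPolynomial.map_C,
        Ideal.Quotient.eq_zero_iff_mem.2 hj, map_zero]
      exact zero_mem _
  exact hle hx

variable {ι : Type*} [Fintype ι]

theorem coeffs_mem_of_mem_sup (b : ∀ (S : Type _) [CommRing S], ι → MvPolynomial (Fin r) S)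
    (hmap : ∀ (J : Ideal R) (k : ι),
      MvPolynomial.map (Ideal.Quotient.mk J) (b R k) = b (R ⧸ J) k)
    (hb : ∀ (S : Type _) [CommRing S],
      FreeVia (phi S r : MvPolynomial (Fin r) S →+* MvPolynomial (Fin r) S) (b S))
    (a : Fin r → R) (J : Ideal R) (α : ι → R)
    (h : ∑ k, MvPolynomial.C (α k) * b R k ∈
      splitIdeal a ⊔ Ideal.map (MvPolynomial.C : R →+* MvPolynomial (Fin r) R) J) :
    ∀ k, α k ∈ J := by
  have h1 := map_mem_splitIdeal a J h
  rw [map_sum] at h1
  simp_rw [map_mul, MvPolynomial.map_C, hmap] at h1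
  intro k
  have := coeffs_eq_zero (hb (R ⧸ J)) _ (fun k => Ideal.Quotient.mk J (α k)) h1 k
  exact Ideal.Quotient.eq_zero_iff_mem.1 this

end

end Helper18.SymBasis
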