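import Groth.Agent.Lib.Helper4.FVMain
import Mathlib

/-!
# The staircase monomial basis of `R[t]` over the elementary symmetric polynomials (helper18)

Builds on helper4's `FreeVia` library: the explicit basis produced by the induction there is the
family of staircase monomials `∏ tᵢ^{dᵢ}`, `dᵢ < r - i`.
-/

open Groth.Agent.Lib.Helper4.FV

namespace Helper18.SymBasis

/-- Staircase exponent vectors. -/
abbrev StairIdx (r : ℕ) : Type := {d : Fin r → ℕ // ∀ i, d i < r - (i : ℕ)}

/-- The dependent-function form of staircase exponent vectors. -/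
def stairEquivPi (r : ℕ) : (Π i : Fin r, Fin (r - (i : ℕ))) ≃ StairIdx r where
  toFun d := ⟨fun i => (d i : ℕ), fun i => (d i).2⟩
  invFun d := fun i => ⟨d.1 i, d.2 i⟩
  left_inv _ := rfl
  right_inv _ := rfl

noncomputable instance (r : ℕ) : Fintype (StairIdx r) := Fintype.ofEquiv _ (stairEquivPi r)

/-- Adding one variable in front. -/
def stairSucc (r : ℕ) : Fin (r + 1) × StairIdx r ≃ StairIdx (r + 1) where
  toFun x := ⟨Fin.cons (x.1 : ℕ) x.2.1, by
    intro i
    refine Fin.cases ?_ (fun j => ?_) i
    · have := x.1.2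
      simp only [Fin.cons_zero, Fin.val_zero]
      omega
    · have := x.2.2 j
      simp only [Fin.cons_succ, Fin.val_succ]
      omega⟩
  invFun d := (⟨d.1 0, by simpa using d.2 0⟩, ⟨fun i => d.1 i.succ, fun i => by
    have := d.2 i.succ
    simp only [Fin.val_succ] at this
    show d.1 i.succ < r - (i : ℕ)
    omega⟩)
  left_inv x := by
    ext <;> simp
  right_inv d := by
    apply Subtype.ext
    funext i
    refine Fin.cases ?_ (fun j => ?_) i <;> simp

section
variable (R : Type*) [CommRing R]

/-- The staircase monomials. -/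
noncomputable def stairMon (r : ℕ) (d : StairIdx r) : MvPolynomial (Fin r) R :=
  ∏ i, MvPolynomial.X i ^ d.1 i

theorem fse_stairMon_succ (r : ℕ) (x : Fin (r + 1) × StairIdx r) :
    fse R r (stairMon R (r + 1) (stairSucc r x)) =
      (Polynomial.X : Polynomial (MvPolynomial (Fin r) R)) ^ (x.1 : ℕ) *
        Polynomial.C (stairMon R r x.2) := by
  rw [stairMon, Fin.prod_univ_succ, map_mul, map_pow, map_prod, fse_apply,
    MvPolynomial.finSuccEquiv_X_zero]
  have e1 : (stairSucc r x).1 0 = (x.1 : ℕ) := by simp [stairSucc]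
  have e2 : ∀ i : Fin r, (stairSucc r x).1 i.succ = x.2.1 i := fun i => by simp [stairSucc]
  rw [e1]
  congr 1
  rw [stairMon, map_prod]
  refine Finset.prod_congr rfl (fun i _ => ?_)
  rw [map_pow, map_pow, fse_apply, MvPolynomial.finSuccEquiv_X_succ, e2]

theorem freeVia_stair : ∀ r : ℕ,
    FreeVia (phi R r : MvPolynomial (Fin r) R →+* MvPolynomial (Fin r) R) (stairMon R r) := by
  intro r
  induction r with
  | zero =>
    have h0 : phi R 0 = AlgHom.id R _ := by
      refine MvPolynomial.algHom_ext fun i => i.elim0
    rw [h0]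
    have hall : ∀ d : StairIdx 0, d = ⟨fun i => i.elim0, fun i => i.elim0⟩ := by
      intro d
      apply Subtype.ext
      funext i
      exact i.elim0
    refine ⟨?_, ?_⟩
    · intro p q h
      funext k
      simp only [AlgHom.coe_toRingHom, AlgHom.coe_id, id_eq] at h
      have h1 : ∀ p : StairIdx 0 → MvPolynomial (Fin 0) R,
          ∑ k, p k * stairMon R 0 k = p ⟨fun i => i.elim0, fun i => i.elim0⟩ := by
        intro p
        rw [Fintype.sum_eq_single ⟨fun i => i.elim0, fun i => i.elim0⟩]
        · simp [stairMon]
        · intro d hd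
          exact absurd (hall d) hd
      rw [h1, h1] at h
      rw [hall k]
      exact h
    · intro f
      refine ⟨fun _ => f, ?_⟩
      simp only [AlgHom.coe_toRingHom, AlgHom.coe_id, id_eq]
      rw [Fintype.sum_eq_single ⟨fun i => i.elim0, fun i => i.elim0⟩]
      · simp [stairMon]
      · intro d hd
        exact absurd (hall d) hd
  | succ r ih =>
    have h1 := (freeVia_psi R r).comp (ih.polynomialMap)
    rw [key_comm] at h1
    have h2 := h1.postcomp_equiv (fse R r).symm
    have h3 : (((fse R r).symm :
        Polynomial (MvPolynomial (Fin r) R) →+* MvPolynomial (Fin (r+1)) R).comp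
        (((fse R r : MvPolynomial (Fin (r+1)) R ≃+* Polynomial (MvPolynomial (Fin r) R)) :
          MvPolynomial (Fin (r+1)) R →+* Polynomial (MvPolynomial (Fin r) R)).comp
          (phi R (r+1) : MvPolynomial (Fin (r+1)) R →+* MvPolynomial (Fin (r+1)) R))) =
        (phi R (r+1) : MvPolynomial (Fin (r+1)) R →+* MvPolynomial (Fin (r+1)) R) := by
      refine RingHom.ext fun x => ?_
      simp only [RingHom.comp_apply, RingHom.coe_coe, RingEquiv.symm_apply_apply]
    rw [h3] at h2
    have h4 := h2.reindex (stairSucc r).symm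
    refine h4.congr rfl ?_
    funext d
    obtain ⟨x, rfl⟩ := (stairSucc r).surjective d
    rw [Equiv.symm_apply_apply, RingEquiv.symm_apply_eq, fse_stairMon_succ]
    simp

end

end Helper18.SymBasis
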